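import Cfsg.Agent.TIM.Plane
import Cfsg.Agent.TIM.Four

/-! # Root involutions, two lines per point: identification in dimension three -/

set_option autoImplicit false

namespace Cfsg.Lib.RH.WT1

open Subgroup Cfsg.Lib.Trans Cfsg.Lib.Gold Cfsg.Lib.TIM Cfsg.Lib.TIM.Pl
open scoped commutatorElement

variable {G : Type*} [Group G]

/-- `L₃` over a finite field of characteristic two. -/
def Iso3 (G : Type*) [Group G] : Prop :=
  ∃ (F : Type) (_ : Field F) (_ : Fintype F), ringChar F = 2 ∧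
    Nonempty (G ≃* Matrix.ProjectiveSpecialLinearGroup (Fin 3) F)

theorem psl3_of_ab [Finite G] [IsSimpleGroup G] (S : Sylow 2 G) (A B : Subgroup G) (hA : A ≤ S)
    (hB : B ≤ S) (hA2 : ∀ a ∈ A, a * a = 1) (hB2 : ∀ b ∈ B, b * b = 1)
    (hAB : ∀ x ∈ (S : Subgroup G), ∃ a ∈ A, ∃ b ∈ B, a * b = x)
    (hI : ∀ x ∈ (S : Subgroup G), x * x = 1 → x ∈ A ∨ x ∈ B) (nAB : ¬ A ≤ B) (nBA : ¬ B ≤ A)
    (hidx : 2 < A.relIndex S) (hc : Nat.card A < A.relIndex S ^ 3) : Iso3 G := by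
  have : Fact (Nat.Prime 2) := ⟨Nat.prime_two⟩
  let A₁ := A.subgroupOf S
  let B₁ := B.subgroupOf S
  have n1 : ¬ A₁ ≤ B₁ := fun h => nAB fun a ha => h (x := ⟨a, hA ha⟩) ha
  have n2 : ¬ B₁ ≤ A₁ := fun h => nBA fun a ha => h (x := ⟨a, hB ha⟩) ha
  have ea : ∀ {C : Subgroup G}, (∀ c ∈ C, c * c = 1) →
      IsElementaryAbelian 2 (C.subgroupOf (S : Subgroup G)) := fun {C} h =>
    ⟨Tl.comm_of_sq fun a ha => Subtype.ext (h _ ha), fun a ha => by
      rw [sq]; exact Subtype.ext (h _ ha)⟩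
  have hC : ∀ C : Subgroup (S : Subgroup G), IsElementaryAbelian 2 C → C ≤ A₁ ∨ C ≤ B₁ :=
    fun C h => le_or_le fun c hc => hI _ c.2 (by
      have := congrArg Subtype.val (h.2 c hc)
      rwa [sq] at this)
  have syl : ∀ {C D : Subgroup G}, C ≤ S → D ≤ S → ¬ C ≤ D → ¬ D ≤ C →
      ∀ P : Sylow 2 (normalClosure (C : Set G)),
        (P : Subgroup (normalClosure (C : Set G))).map (normalClosure (C : Set G)).subtype ≠ C :=
    fun {C D} hC hD n1 n2 P e => by
      have h1 := isSylowIn_map_subtype P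
      rw [e, (normalClosure_normal (s := (C : Set G))).eq_bot_or_eq_top.resolve_left fun e' =>
        n1 (le_normalClosure.trans (e'.le.trans bot_le))] at h1
      exact n2 (hD.trans (h1.eq_of_le S.isPGroup' hC le_top).le)
  rcases Cfsg.Agent.S3187.result S A₁ B₁ (fun h => n1 h.le)
    ⟨ea hA2, fun C h hle => le_antisymm ((hC C h).resolve_right fun h' => n1 (hle.trans h')) hle⟩
    ⟨ea hB2, fun C h hle => le_antisymm ((hC C h).resolve_left fun h' => n2 (hle.trans h')) hle⟩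
    (fun C h hm => (hC C h).imp (fun h' => (hm _ (ea hA2) h').symm)
      fun h' => (hm _ (ea hB2) h').symm)
    (fun s => by
      obtain ⟨a, ha, b, hb, h⟩ := hAB s s.2
      exact ⟨⟨a, hA ha⟩, ha, ⟨b, hB hb⟩, hb, Subtype.ext h⟩)
    A B (map_subgroupOf_eq_of_le hA).symm (map_subgroupOf_eq_of_le hB).symm with
    h | ⟨P, hP⟩ | ⟨P, hP⟩ | ⟨-, Y, hY, K, L, hKL, hsup, hK, hL, F, _, _, hF, h⟩
  · exact absurd h.1 hidx.ne'
  · exact (syl hA hB nAB nBA P hP).elim
  · exact (syl hB hA nBA nAB P hP).elim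
  obtain ⟨u, hu, huB⟩ := SetLike.not_le_iff_exists.1 nAB
  have hu1 : u ≠ 1 := fun e => huB (e ▸ B.one_mem)
  have hk : orderOf u = 2 := Tl.orderOf_eq_two (hA2 u hu) hu1
  have hYt : Y = ⊤ := by
    have hn : Y.Normal := by
      rw [hY]
      refine ⟨fun n hn g => ?_⟩
      have : (closure {g : G | ∃ k : ℕ, orderOf g = 2 ^ k}).map (MulAut.conj g).toMonoidHom ≤
          closure {g : G | ∃ k : ℕ, orderOf g = 2 ^ k} := by
        rw [MonoidHom.map_closure]
        refine closure_mono ?_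
        rintro _ ⟨z, ⟨j, hj⟩, rfl⟩
        exact ⟨j, by rw [← hj]; exact (MulAut.conj g).orderOf_eq z⟩
      exact this ⟨n, hn, rfl⟩
    refine (IsSimpleGroup.eq_bot_or_eq_top_of_normal _ hn).resolve_left fun h => hu1 ?_
    have : u ∈ Y := hY ▸ subset_closure ⟨1, by rw [hk, pow_one]⟩
    rwa [h, mem_bot] at this
  clear hY
  subst hYt
  have hsT : IsSimpleGroup (⊤ : Subgroup G) := topEquiv.isSimpleGroup
  have hO : oddCore (⊤ : Subgroup G) = ⊥ := by
    refine (IsSimpleGroup.eq_bot_or_eq_top_of_normal _ inferInstance).resolve_right fun e => ?_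
    have h1 := Solv.odd_card_oddCore (⊤ : Subgroup G)
    rw [e, card_top, card_top] at h1
    exact (Nat.not_even_iff_odd.2 h1) (even_iff_two_dvd.2 (hk ▸ orderOf_dvd_natCard u))
  let e : G ≃* (⊤ : Subgroup G) ⧸ oddCore (⊤ : Subgroup G) :=
    topEquiv.symm.trans ((QuotientGroup.quotientMulEquivOfEq hO).trans QuotientGroup.quotientBot).symm
  have hsQ : IsSimpleGroup ((⊤ : Subgroup G) ⧸ oddCore (⊤ : Subgroup G)) := e.symm.isSimpleGroup
  have hLn : L.Normal := by
    rw [← normalizer_eq_top_iff, eq_top_iff, ← hsup]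
    refine sup_le (fun a ha => mem_normalizer_of_cj_le (cj_le_iff.2 fun l hl => ?_)) le_normalizer
    rw [hKL a ha l hl, mul_inv_cancel_right]
    exact hl
  have hLt : L = ⊤ := by
    refine (IsSimpleGroup.eq_bot_or_eq_top_of_normal _ hLn).resolve_left fun h => ?_
    rw [h, sup_bot_eq] at hsup
    have hm : ∀ g, e g ∈ K := fun g => hsup ▸ mem_top _
    have h2 : ∀ x ∈ (S : Subgroup G), x * x = 1 := fun x hx => by
      obtain ⟨k, hk⟩ := IsPGroup.iff_orderOf.1 S.isPGroup' ⟨x, hx⟩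
      rw [Subgroup.orderOf_mk] at hk
      have h2 : IsPGroup 2 (zpowers (⟨e x, hm x⟩ : K)) :=
        IsPGroup.of_card (n := k) (by rw [Nat.card_zpowers, Subgroup.orderOf_mk, e.orderOf_eq, hk])
      obtain ⟨P, hP⟩ := h2.exists_le_sylow
      have := congrArg Subtype.val ((hK P).2 _ (hP (mem_zpowers _)))
      apply e.injective
      rw [map_mul, map_one, ← sq]
      exact this
    obtain ⟨v, hv, hvA⟩ := SetLike.not_le_iff_exists.1 nBA
    rcases hI _ (mul_mem (hA hu) (hB hv)) (h2 _ (mul_mem (hA hu) (hB hv))) with h3 | h3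
    · exact hvA ((A.mul_mem_cancel_left hu).1 h3)
    · exact huB ((B.mul_mem_cancel_right hv).1 h3)
  subst hLt
  have hsL : IsSimpleGroup (⊤ : Subgroup ((⊤ : Subgroup G) ⧸ oddCore (⊤ : Subgroup G))) :=
    topEquiv.isSimpleGroup
  have hZ : center (⊤ : Subgroup ((⊤ : Subgroup G) ⧸ oddCore (⊤ : Subgroup G))) = ⊥ := by
    refine (IsSimpleGroup.eq_bot_or_eq_top_of_normal _ inferInstance).resolve_right fun h => ?_
    have h1 := hL.commutator_eq_top
    rw [(commutator_eq_bot_iff_center_eq_top _).2 h] at h1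
    exact bot_ne_top h1
  let e' := e.trans (topEquiv.symm.trans
    ((QuotientGroup.quotientMulEquivOfEq hZ).trans QuotientGroup.quotientBot).symm)
  obtain ⟨n, hn⟩ := S.isPGroup'.index A₁
  have hn' : A.relIndex S = 2 ^ n := hn
  have hn0 : n ≠ 0 := by
    rintro rfl
    omega
  rw [hn] at hF
  obtain ⟨⟨e₁⟩⟩ | ⟨⟨e₁⟩⟩ := h
  · refine ⟨F, inferInstance, inferInstance, ?_, ⟨e'.trans e₁⟩⟩
    have h2 := FiniteField.cast_card_eq_zero F
    rw [hF, Nat.cast_pow, pow_eq_zero_iff hn0] at h2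
    have := (CharP.charP_iff_prime_eq_zero (R := F) Nat.prime_two).2 h2
    exact ringChar.eq F 2
  · exfalso
    have h1 := pow_four_dvd_psp4 hn0 hF
    rw [← Nat.card_congr (e'.trans e₁).toEquiv, ← (S : Subgroup G).card_mul_index, ← pow_mul] at h1
    have h2 := ((Nat.Coprime.pow_left _ ((Nat.Prime.coprime_iff_not_dvd Nat.prime_two).2
      S.not_dvd_index)).dvd_of_dvd_mul_right h1)
    have h3 := Nat.le_of_dvd Nat.card_pos h2
    rw [← A₁.card_mul_index, hn, Nat.card_congr (subgroupOfEquivOfLe hA).toEquiv, pow_mul] at h3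
    rw [hn'] at hc
    have h4 : 0 < 2 ^ n := by positivity
    have : Nat.card A * 2 ^ n < (2 ^ n) ^ 3 * 2 ^ n := Nat.mul_lt_mul_of_pos_right hc h4
    rw [← pow_succ] at this
    exact absurd h3 this.not_ge

theorem plane3 [Finite G] [IsSimpleGroup G] {S : Set (Subgroup G)} {q : ℕ} (h : Par S q q) (h4 : 4 ≤ q) (hs : Spread S q)
    (hc : Conn S) : Iso3 G := by
  have : Fact (Nat.Prime 2) := ⟨Nat.prime_two⟩
  have H : Pl.Ctx S q := ⟨h, h4, hs, h.twoDir⟩
  have s := h.toSys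
  obtain ⟨A, B, hAB⟩ := h.ex
  have hA := hAB.left
  have hB := hAB.right
  have hBA := h.mx_symm hAB
  obtain ⟨T, hT⟩ := (IsPGroup.to_sup_of_normal_left' (s.pgroup hA)
    ((s.pgroup hB).to_le (Nm_le B A)) (Nm_le_Ns B A)).exists_le_sylow
  have hT' := H.sylow_eq hc hAB T hT
  have hAT : A ≤ T := le_sup_left.trans hT
  have hidx : q ≤ A.relIndex T := by
    let φ : Nm B A → (T : Subgroup G) ⧸ A.subgroupOf T := fun b =>
      ((⟨b, hT (mem_sup_right b.2)⟩ : (T : Subgroup G)) : _ ⧸ _)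
    have hφ : Function.Injective φ := fun b b' e => by
      have e' : (b : G)⁻¹ * b' ∈ A := QuotientGroup.eq (s := A.subgroupOf T).1 e
      exact Subtype.ext (inv_mul_eq_one.1
        (h.ti hA hB hAB.ne e' (mul_mem (inv_mem b.2.1) b'.2.1)))
    rw [← hBA.card]
    exact Nat.card_le_card_of_injective φ hφ
  refine psl3_of_ab T A (NN A B) hAT
    ((sup_le_sup (Nm_le A B) le_rfl).trans hT) (fun _ ha => h.sq hA ha)
    (fun _ hb => s.NN_sq hA hB hAB.ne hb) (fun x hx => ?_) (fun x hx h2 => ?_) (fun e => ?_)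
    (fun e => ?_) (by omega) ?_
  · obtain ⟨a, ha, b, hb, e⟩ := Pl.mem_Q.1 (hT' hx)
    exact ⟨a, ha, b, mem_sup_right hb, e⟩
  · refine (H.inv_Q hAB (hT' hx) h2).imp_right ?_
    rintro ⟨u, hu, b, hb, -, rfl⟩
    exact mul_mem (mem_sup_left hu) (mem_sup_right hb)
  · exact (s.Nm_lt hA hB hAB.ne).ne ((s.inf_NN hA hB hAB.ne).symm.trans (inf_eq_left.2 e))
  · obtain ⟨b, hb, hb1⟩ := H.exists_ne_one (Pl.dir_of_mx hBA)
    exact hb1 (h.ti hA hB hAB.ne (e (mem_sup_right hb)) hb.1)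
  · rw [h.card hA]
    calc q * q < q * q * q := by nlinarith
      _ = q ^ 3 := by ring
      _ ≤ _ := Nat.pow_le_pow_left hidx 3

theorem four3 [Finite G] [IsSimpleGroup G] {A F : Subgroup G} {u a b : G} (c : Cfg A F u a b)
    (hC : Cs A ≤ A) : Iso3 G ∨ Nonempty (G ≃* alternatingGroup (Fin 6)) := by
  obtain ⟨eD⟩ := c.dihedral
  · have h1 : C1 u = DD A b := by
      refine le_antisymm (fun g hg => ?_) fun d hd =>
        mem_centralizer_singleton_iff.2 (c.comm_u hd)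
      rcases c.cent_u (mem_centralizer_singleton_iff.1 hg) with h | h
      · exact Cfg.le_DD (hC h)
      · have : g = b⁻¹ * (b * g) := by group
        rw [this]; exact mul_mem (inv_mem Cfg.b_mem_DD) (Cfg.le_DD (hC h))
    rcases Cfsg.Agent.S3035.result u c.orderOf_u ⟨(MulEquiv.subgroupCongr h1).trans eD⟩ with
      h | ⟨⟨e⟩⟩ | ⟨⟨e⟩⟩ | ⟨⟨e⟩⟩ | h
    · exfalso
      have h2 : oddCore G = ⊥ :=
        c.core_eq_bot fun h => Nat.not_even_iff_odd.2 (Solv.odd_card_oddCore G) (even_iff_two_dvd.2 h)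
      rw [h2, sup_bot_eq] at h
      obtain ⟨m, -, hm⟩ := c.two
      exact hm (mem_centralizer_singleton_iff.1 (h ▸ mem_top m))
    · exact (c.not_perm (n := 2) e).elim
    · exact (c.not_perm (n := 3) e).elim
    · have := e.symm.isSimpleGroup
      have h2 : Subgroup.center (Matrix.SpecialLinearGroup (Fin 3) (ZMod 2)) = ⊥ :=
        (IsSimpleGroup.eq_bot_or_eq_top_of_normal _ inferInstance).resolve_right (c.not_comm e)
      exact Or.inl ⟨ZMod 2, inferInstance, inferInstance, ZMod.ringChar_zmod_n 2,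
        ⟨e.trans ((QuotientGroup.quotientMulEquivOfEq h2).trans QuotientGroup.quotientBot).symm⟩⟩
    · exact Or.inr h

end Cfsg.Lib.RH.WT1
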