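import Cfsg.Agent.SNX.Small

/-!
# A centraliser of an involution with `O₂ = 4 ∘ Q₈`: recognition of `U₃(3)`
-/

set_option autoImplicit false

namespace Cfsg.Lib.RH.WU

open Subgroup Cfsg.Lib.Local Cfsg.Lib.LX Cfsg.Lib.SNX

universe u

variable {G : Type u} [Group G] [Finite G] [IsSimpleGroup G] {z : G}

theorem concl_w {y : G} {P Q : Subgroup G} (L : Loc z y P Q) (S : Sylow 2 G) (hP : P ≤ S)
    (h : IsWreathed (S : Subgroup G)) {k m : ℕ} (hm : m ≤ 6)
    (hc : Nat.card (centralizer ({z} : Set G)) = m * 2 ^ k) :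
    ∃ (F : Type) (_ : Field F) (_ : Fintype F), Fintype.card F = 9 ∧ Nonempty (G ≃* PSU 3 F 3) := by
  obtain ⟨F, _, _, Γ, rfl⟩ := Rank2.exists_pre S (.inr h) (Rank2.index_ne_two_of_qw S (.inr h))
  obtain rfl : Γ.z = z := (L.eq_z (by rw [← sq, ← Γ.hz, pow_orderOf_eq_one])
    fun x hx => Γ.z_comm x (hP hx)).resolve_left fun e => by simpa [e] using Γ.hz
  have h1 := (card_dvd_of_injective _ Γ.D.inj).trans (card_quotient_dvd_card _)
  rw [hc, Class.card_SL2] at h1
  have h0 : m ≠ 0 := by rintro rfl; simp [Nat.card_pos.ne'] at hc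
  have h2 := (Nat.Coprime.pow_right k (Nat.coprime_two_right.2 Γ.hF)).dvd_of_dvd_mul_right
    (((dvd_mul_right _ _).trans (dvd_mul_right _ _)).trans h1)
  have h3 : Nat.card F = 3 := by
    have a := Nat.le_of_dvd (by omega) h2
    have b : 1 < Nat.card F := Finite.one_lt_card
    obtain ⟨j, hj⟩ := Γ.hF
    by_contra c
    have d : Nat.card F = 5 := by omega
    rw [d] at h1 h2
    have := (Nat.Coprime.pow_right k (show Nat.Coprime 3 2 by norm_num)).dvd_of_dvd_mul_right
      ((show 3 ∣ 5 * (5 - 1) * (5 + 1) by norm_num).trans h1)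
    omega
  let Γ' : Rank2.Good G F := ⟨Γ, Agent.Gate.R2F.out Γ⟩
  obtain ⟨E, _, _, hE⟩ := Rank2.exists_field_sq F
  exact ⟨E, _, _, by rw [hE, h3]; rfl, h3 ▸ Γ'.nonempty_equiv_PSU (.inr ⟨h, by rw [h3]⟩) hE⟩

variable {D : Set G} {y : G → G} {P Q : G → Subgroup G} {t s a : G}

theorem concl_u (C : Pr D y P z t s a) (F : Fam D y P Q) (hs : s ∈ D)
    (hc : Nat.card (P z) = 16) :
    ∃ (F : Type) (_ : Field F) (_ : Fintype F), Fintype.card F = 9 ∧ Nonempty (G ≃* PSU 3 F 3) := by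
  obtain ⟨W, _, _, _, ⟨M⟩⟩ := (F.loc C.hz).exists_sp
  have L := M.L
  have L' := F.loc C.ht
  have four := M.four' (by rw [M.card_P] at hc; omega) (C.bvt M)
  have st := C.bvt M
  have ts := M.b_comm _ _ ▸ st
  have a0 : M.π a = 0 := by
    have a1 := C.bva M
    have a2 := C.bta F M
    rcases four (M.π a) with e | e | e | e <;> simp_all [M.b_self]
  have ρs := C.ρv F M
  rw [a0, add_zero] at ρs
  have yz := C.yz F
  have ρt := M.ρ_fix yz C.tP (L'.yc t L'.zP).symm
  have QP := F.QP C.hz C.ht (C.n F) C.tP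
  have k : ∀ h, h * z = z * h → M.ρ h (M.π t) = M.π t → h ∈ P z ∨ h * y t ∈ P z := fun h hh e => by
    have triv : ∀ h, h * z = z * h → M.ρ h (M.π t) = M.π t → M.ρ h (M.π s) = M.π s → h ∈ P z :=
      fun h hh e f => QP (M.memQ hh fun w => by rcases four w with a | a | a | a <;> simp [a, e, f])
    have b := M.b_ρ hh (M.π s) (M.π t)
    rw [e, st] at b
    rcases four (M.ρ h (M.π s)) with f | f | f | f
    · simp [f] at b
    · simp [f, M.b_self] at b
    · exact Or.inl (triv h hh e f)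
    · exact Or.inr (triv _ (cmul hh yz) (by rw [M.ρ_mul hh yz, ρt, e])
        (by rw [M.ρ_mul hh yz, ρs, map_add, e, f, add_add_cancel'']))
  have tt : y t * y t ∈ P z := by rw [L'.yy]; exact C.tP
  obtain ⟨S, hS, Sz⟩ := F.sylow C.hz (K := ext2 (P z) (y t) (L.nP _ yz) tt)
    (fun x => ⟨3, Subtype.ext (by
      have a : x.1 * x.1 ∈ P z := by
        rcases x.2 with e | e
        · exact mul_mem e e
        · convert mul_mem (mul_mem e (L.nP _ (cinv yz) _ e)) (inv_mem tt) using 1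
          group
      obtain ⟨j, hj⟩ := L.sp.isPGroup ⟨_, a⟩
      rcases L.sq a with e | e
      · calc x.1 ^ 2 ^ 3 = (x.1 * x.1 * (x.1 * x.1)) ^ 2 := by
              norm_num; simp only [pow_succ, pow_zero, one_mul, mul_assoc]
          _ = 1 := by rw [e, one_pow]
      · calc x.1 ^ 2 ^ 3 = (x.1 * x.1 * (x.1 * x.1)) ^ 2 := by
              norm_num; simp only [pow_succ, pow_zero, one_mul, mul_assoc]
          _ = 1 := by rw [e, sq, L.zz])⟩) fun x hx => Or.inl hx
  have PS : P z ≤ S := fun x hx => hS (Or.inl hx)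
  have yS : y t ∈ (S : Subgroup G) := hS (Or.inr tt)
  obtain ⟨v, v0, fix⟩ := M.exists_fix S.isPGroup' Sz (v₀ := M.π t) fun e => by simp [e] at st
  obtain rfl : v = M.π t := by
    have b := fix _ yS
    have t0 : M.π t ≠ 0 := fun e => by simp [e] at st
    rcases four v with f | f | f | f <;> simp_all
  have cS := card_two_mul PS yS (F.y_notP C.hz C.ht (C.n F)) fun x hx => k x (Sz x hx) (fix x hx)
  have zt := F.mulD C.hz C.ht (C.n F) C.tP
  have wr : IsWreathed (S : Subgroup G) := by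
    refine ⟨2, le_rfl, by rw [cS, hc]; rfl, ⟨y t, yS⟩, ⟨s, PS C.vP⟩ * ⟨y t, yS⟩ * ⟨s, PS C.vP⟩⁻¹,
      ⟨s, PS C.vP⟩, by rw [orderOf_mk, L'.oy]; rfl, Subtype.ext ?_, eq_bot_iff.2 ?_,
      by rw [orderOf_mk, (F.loc hs).sp.ord], rfl⟩
    · change y t * (s * y t * s⁻¹) = s * y t * s⁻¹ * y t
      rw [C.vy]
      exact (cmul (cmul rfl (F.yy_comm C.hz C.ht (C.n F).symm (L.yc t C.tP).symm))
        (L'.yc _ (mul_mem C.aP' L'.zP))).symm
    · rintro x ⟨⟨i, hi⟩, ⟨j, hj⟩⟩
      have x1 : x.1 ∈ zpowers (y t) := ⟨i, congrArg Subtype.val hi⟩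
      have x2 : x.1 ∈ zpowers (y (z * t)) := by
        rw [← hj]
        refine zpow_mem (show s * y t * s⁻¹ ∈ _ from ?_) j
        rcases F.cy C.ht C.vt with e | e <;> simp [e]
      have n' : z * t ≠ t := fun e => L.z1 (mul_eq_right.1 e)
      have xx := F.sqA C.ht zt n' (L'.YP x1) ((F.loc zt).YP x2)
      rcases L'.invY x1 xx with e | e
      · exact Subtype.ext e
      · exact absurd (((F.loc zt).invY x2 xx).resolve_left (e ▸ L'.z1)) (e ▸ n'.symm)
  obtain ⟨j, hj⟩ := (S.isPGroup'.to_le (show centralizer ({t} : Set G) ⊓ centralizer {z} ≤ S from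
    fun h hh => by
      have a := mem_centralizer_singleton_iff.1 hh.2
      rcases k h a (M.ρ_fix a C.tP (mem_centralizer_singleton_iff.1 hh.1)) with e | e
      exacts [PS e, (mul_mem_cancel_right yS).1 (PS e)])).exists_card_eq
  refine concl_w L S PS wr ?_ ((card_orb (centralizer {z}) t).trans (by rw [hj]))
  obtain ⟨w, w1, w2, w3⟩ := M.lift (M.π s + M.π t)
  classical
  refine (Set.ncard_le_ncard (t := ({t, z * t, s, z * s, w, z * w} : Finset G)) ?_).trans
    (by rw [Set.ncard_coe_finset]; exact Finset.card_le_six)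
  rintro _ ⟨h, hh, rfl⟩
  have a := mem_centralizer_singleton_iff.1 hh
  have m := L.nP h a t C.tP
  have sq := F.sq (F.cD h C.ht)
  rcases four (M.π (h * t * h⁻¹)) with e | e | e | e
  · have b := M.b_ρ a (M.π s) (M.π t)
    simp [M.ρ_π a C.tP, e, st] at b
  · rcases M.π_eq_sq m C.tP e (sq.trans L'.zz.symm) with f | f <;> simp [f]
  · rcases M.π_eq_sq m C.vP e (sq.trans (F.sq hs).symm) with f | f <;> simp [f]
  · rcases M.π_eq_sq m w1 (e.trans w3.symm) (sq.trans w2.symm) with f | f <;> simp [f]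

end Cfsg.Lib.RH.WU
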